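import Groth.Prelude.Def_EtAlgD
import Groth.Agent.WEtLib.OverField
import Groth.Agent.Hensel.EtaleResidueExt
import Groth.Agent.S0426
import Mathlib.Dynamics.Newton

/-!
# The largest weakly etale subalgebra over a field
-/

set_option autoImplicit false
universe u

open TensorProduct Polynomial

namespace Groth.Agent.WEtMaxLib

open Groth.Agent

variable {K : Type u} [Field K] {A : Type u} [CommRing A] [Algebra K A]

theorem weaklyEtale_of_algEquiv {B C : Type u} [CommRing B] [CommRing C] [Algebra K B] [Algebra K C]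
    [Algebra.WeaklyEtale K B] (e : B ≃ₐ[K] C) : Algebra.WeaklyEtale K C :=
  S0736.result K C (Hensel.isIndEtale_of_algEquiv (WEtLib.isIndEtale_of_weaklyEtale (K := K) (B := B)) e)

theorem weaklyEtale_range {B : Type u} [CommRing B] [Algebra K B] [Algebra.WeaklyEtale K B] (f : B →ₐ[K] A) :
    Algebra.WeaklyEtale K f.range := by
  haveI := WEtLib.weaklyEtale_quotient (K := K) (RingHom.ker f)
  exact weaklyEtale_of_algEquiv (Ideal.quotientKerEquivRange f)

theorem weaklyEtale_map {B : Type u} [CommRing B] [Algebra K B] (S : Subalgebra K B) [Algebra.WeaklyEtale K S]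
    (f : B →ₐ[K] A) : Algebra.WeaklyEtale K (S.map f) := by
  have h := weaklyEtale_range (f.comp S.val)
  rw [AlgHom.range_comp, Subalgebra.range_val] at h
  exact h

theorem weaklyEtale_of_le {S T : Subalgebra K A} (h : S ≤ T) [Algebra.WeaklyEtale K T] : Algebra.WeaklyEtale K S := by
  haveI := WEtLib.weaklyEtale_subalgebra (K := K) (B := T) (Subalgebra.inclusion h).range
  exact weaklyEtale_of_algEquiv (AlgEquiv.ofInjective _ (Subalgebra.inclusion_injective h)).symm

theorem weaklyEtale_sup (S T : Subalgebra K A) [Algebra.WeaklyEtale K S] [Algebra.WeaklyEtale K T] :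
    Algebra.WeaklyEtale K ↥(S ⊔ T) := by
  haveI : Algebra.WeaklyEtale K (S ⊗[K] T) := Algebra.WeaklyEtale.trans K S (S ⊗[K] T)
  have h := weaklyEtale_range (Algebra.TensorProduct.productMap S.val T.val)
  rw [Algebra.TensorProduct.productMap_range, Subalgebra.range_val, Subalgebra.range_val] at h
  exact h

theorem exists_mem {x : A} (hx : x ∈ EtAlgD.maxWeaklyEtale K A) :
    ∃ S : Subalgebra K A, Algebra.WeaklyEtale K S ∧ x ∈ S := by
  have hbot : Algebra.WeaklyEtale K (⊥ : Subalgebra K A) := by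
    have h := weaklyEtale_range (Algebra.ofId K A)
    rwa [Algebra.range_ofId] at h
  let U : Set (Subalgebra K A) := {S | Algebra.WeaklyEtale K S}
  have hd : DirectedOn (· ≤ ·) U := fun S (hS : Algebra.WeaklyEtale K S) T (hT : Algebra.WeaklyEtale K T) =>
    ⟨S ⊔ T, weaklyEtale_sup S T, le_sup_left, le_sup_right⟩
  haveI : Nonempty U := ⟨⟨⊥, hbot⟩⟩
  have hx' : x ∈ ⨆ S : U, (S : Subalgebra K A) := by rwa [← sSup_eq_iSup']
  rw [← SetLike.mem_coe, Subalgebra.coe_iSup_of_directed hd.directed_val, Set.mem_iUnion] at hx'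
  obtain ⟨⟨S, hS⟩, hxS⟩ := hx'
  exact ⟨S, hS, hxS⟩

theorem le_max {S : Subalgebra K A} (h : Algebra.WeaklyEtale K S) : S ≤ EtAlgD.maxWeaklyEtale K A :=
  le_sSup h

theorem weaklyEtale_max : Algebra.WeaklyEtale K (EtAlgD.maxWeaklyEtale K A) := by
  classical
  refine S0736.result K _ (IndEtLib.isIndEtale_of_factor fun P _ _ hP φ => ?_)
  let T : Subalgebra K A := ((EtAlgD.maxWeaklyEtale K A).val.comp φ).range
  have hfg : T.FG := by
    have : Algebra.FiniteType K T := Algebra.FiniteType.of_surjective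
      ((EtAlgD.maxWeaklyEtale K A).val.comp φ).rangeRestrict (AlgHom.rangeRestrict_surjective _)
    exact T.fg_iff_finiteType.2 this
  obtain ⟨s, hs⟩ := hfg
  have hmem : ∀ t : Finset A, ↑t ⊆ (EtAlgD.maxWeaklyEtale K A : Set A) →
      ∃ S : Subalgebra K A, Algebra.WeaklyEtale K S ∧ ↑t ⊆ (S : Set A) := by
    intro t
    induction t using Finset.induction_on with
    | empty =>
      intro _
      obtain ⟨S, hS, -⟩ := exists_mem (K := K) (A := A) (one_mem _)
      exact ⟨S, hS, by simp⟩
    | insert a t _ ih =>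
      intro h
      obtain ⟨S, hS, hSt⟩ := ih fun b hb => h (by simp [show b ∈ t from hb])
      obtain ⟨S', hS', haS'⟩ := exists_mem (K := K) (h (show a ∈ ↑(insert a t) by simp))
      refine ⟨S ⊔ S', weaklyEtale_sup S S', fun b hb => ?_⟩
      rcases Finset.mem_insert.1 (Finset.mem_coe.1 hb) with rfl | hb
      · exact le_sup_right (a := S) haS'
      · exact le_sup_left (b := S') (hSt hb)
  have hTle : T ≤ EtAlgD.maxWeaklyEtale K A := by
    rintro _ ⟨p, rfl⟩
    exact (φ p).2
  obtain ⟨S, hS, hsS⟩ := hmem s fun a ha => hTle (hs ▸ Algebra.subset_adjoin ha)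
  have hTS : T ≤ S := hs ▸ Algebra.adjoin_le hsS
  haveI : Algebra.WeaklyEtale K T := weaklyEtale_of_le hTS
  haveI : Algebra.FiniteType K T := T.fg_iff_finiteType.1 ⟨s, hs⟩
  haveI : Algebra.Etale K (⊤ : Subalgebra K T) := WEtLib.etale_subalgebra_of_fg ⊤ Algebra.FiniteType.out
  exact ⟨T, inferInstance, inferInstance, Algebra.Etale.of_equiv Subalgebra.topEquiv,
    ((EtAlgD.maxWeaklyEtale K A).val.comp φ).rangeRestrict, Subalgebra.inclusion hTle, rfl⟩

instance instMax : Algebra.WeaklyEtale K (EtAlgD.maxWeaklyEtale K A) := weaklyEtale_max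

theorem isReduced_max : IsReduced (EtAlgD.maxWeaklyEtale K A) :=
  WEtLib.isReduced_of_forall_exists (WEtLib.exists_mul_eq (K := K))

theorem map_max_subalgebra (A' : Subalgebra K A) :
    (EtAlgD.maxWeaklyEtale K A').map A'.val = EtAlgD.maxWeaklyEtale K A ⊓ A' := by
  refine le_antisymm (le_inf (le_max (weaklyEtale_map _ _)) ?_) fun x hx => ?_
  · rintro _ ⟨y, -, rfl⟩
    exact y.2
  · obtain ⟨hxm, hxA⟩ := hx
    haveI : Algebra.WeaklyEtale K ↥(EtAlgD.maxWeaklyEtale K A ⊓ A') := weaklyEtale_of_le inf_le_left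
    let W := EtAlgD.maxWeaklyEtale K A ⊓ A'
    haveI : Algebra.WeaklyEtale K (W.comap A'.val) :=
      weaklyEtale_of_algEquiv (AlgEquiv.ofBijective
        (((W.val).codRestrict A' fun y => y.2.2).codRestrict (W.comap A'.val) fun y => y.2)
        ⟨fun a b h => Subtype.ext (congrArg (fun z : W.comap A'.val => ((z : A') : A)) h),
          fun z => ⟨⟨_, z.2⟩, rfl⟩⟩)
    exact ⟨⟨x, hxA⟩, le_max (S := W.comap A'.val) inferInstance ⟨hxm, hxA⟩, rfl⟩

/-- Every element of a weakly etale algebra over a field is a root of a separable polynomial. -/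
theorem separable_minpoly {B : Type u} [CommRing B] [Algebra K B] [Algebra.WeaklyEtale K B] (x : B) :
    (minpoly K x).Separable := by
  have hint := WEtLib.isIntegral_of_weaklyEtale (K := K) x
  have := WEtLib.isReduced_of_forall_exists (WEtLib.exists_mul_eq (K := K) (R := B))
  set f := minpoly K x with hf
  have hf0 : f ≠ 0 := minpoly.ne_zero hint
  have hmin : ∀ P : K[X], P ≠ 0 → aeval x P = 0 → f.natDegree ≤ P.natDegree := fun P hP h =>
    natDegree_le_of_dvd (minpoly.dvd K x h) hP
  by_contra hns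
  obtain ⟨g, hg, hgf, hgf'⟩ : ∃ g : K[X], Irreducible g ∧ g ∣ f ∧ g ∣ derivative f := by
    by_contra h
    push Not at h
    exact hns (isRelPrime_iff_isCoprime.1 (fun d hd hd' => by
      by_contra hu
      have hd0 : d ≠ 0 := fun h0 => hf0 (zero_dvd_iff.1 (h0 ▸ hd))
      obtain ⟨g, hg, hgd⟩ := WfDvdMonoid.exists_irreducible_factor hu hd0
      exact h g hg (hgd.trans hd) (hgd.trans hd')))
  obtain ⟨h, hfh⟩ := hgf
  have hh0 : h ≠ 0 := fun h0 => hf0 (by rw [hfh, h0, mul_zero])
  have hg0 : g ≠ 0 := hg.ne_zero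
  have hdeg : f.natDegree = g.natDegree + h.natDegree := by rw [hfh, natDegree_mul hg0 hh0]
  have hgpos : 0 < g.natDegree := hg.natDegree_pos
  have hgsep : g.Separable := by
    have hnu : ¬ IsUnit (aeval x g) := fun hu => by
      have h0 : aeval x h = 0 := hu.mul_right_eq_zero.1 (by rw [← map_mul, ← hfh, hf, minpoly.aeval])
      exact absurd (hmin h hh0 h0) (by omega)
    obtain ⟨P, hP, hgP⟩ := exists_max_ideal_of_mem_nonunits hnu
    haveI := hP.isPrime
    have hz : aeval (Ideal.Quotient.mk P x) g = 0 := by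
      rw [← Ideal.Quotient.mkₐ_eq_mk K, aeval_algHom_apply, Ideal.Quotient.mkₐ_eq_mk,
        Ideal.Quotient.eq_zero_iff_mem]
      exact hgP
    letI := Ideal.Quotient.field P
    have hsep : (minpoly K (Ideal.Quotient.mk P x)).Separable := WEtLib.isSeparable_mk (K := K) P x
    obtain ⟨r, hr⟩ := minpoly.dvd K _ hz
    rcases hg.isUnit_or_isUnit hr with hu | hu
    · exact absurd hu (minpoly.not_isUnit K _)
    · exact hsep.of_dvd (by rw [hr]; exact hu.mul_right_dvd.2 dvd_rfl)
  have hgh : g ∣ derivative g * h := by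
    have h1 := hgf'
    rw [hfh, derivative_mul] at h1
    exact (dvd_add_left (dvd_mul_right g _)).1 h1
  obtain ⟨h', rfl⟩ : g ∣ h := hgsep.dvd_of_dvd_mul_left hgh
  have hh' : h' ≠ 0 := fun h0 => hh0 (by rw [h0, mul_zero])
  have h0 : aeval x (g * h') = 0 := by
    refine IsReduced.eq_zero _ ⟨2, ?_⟩
    rw [← map_pow, show (g * h') ^ 2 = f * h' by rw [hfh]; ring, map_mul, hf, minpoly.aeval, zero_mul]
  exact absurd (hmin _ hh0 h0) (by omega)

theorem bijOn_reduced :
    Set.BijOn (Ideal.Quotient.mkₐ K (nilradical A)) (EtAlgD.maxWeaklyEtale K A)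
      (EtAlgD.maxWeaklyEtale K (A ⧸ nilradical A)) := by
  refine ⟨fun x hx => le_max (weaklyEtale_map (EtAlgD.maxWeaklyEtale K A) (Ideal.Quotient.mkₐ K (nilradical A))) ⟨x, hx, rfl⟩, fun x hx y hy h => ?_, fun x hx => ?_⟩
  · have h1 : IsNilpotent (x - y) := mem_nilradical.1 (Ideal.Quotient.eq.1 h)
    haveI := isReduced_max (K := K) (A := A)
    have h2 : (⟨x - y, sub_mem hx hy⟩ : EtAlgD.maxWeaklyEtale K A) = 0 := by
      refine IsReduced.eq_zero _ ?_
      obtain ⟨n, hn⟩ := h1
      exact ⟨n, Subtype.ext (by simpa using hn)⟩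
    exact sub_eq_zero.1 (congrArg Subtype.val h2)
  · set f := minpoly K (⟨x, hx⟩ : EtAlgD.maxWeaklyEtale K (A ⧸ nilradical A)) with hf
    have hsep : f.Separable := separable_minpoly _
    have hmonic : f.Monic := minpoly.monic (WEtLib.isIntegral_of_weaklyEtale _)
    have hx0 : aeval x f = 0 := by
      have h := congrArg (EtAlgD.maxWeaklyEtale K (A ⧸ nilradical A)).val
        (minpoly.aeval K (⟨x, hx⟩ : EtAlgD.maxWeaklyEtale K (A ⧸ nilradical A)))
      rwa [map_zero, ← aeval_algHom_apply] at h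
    obtain ⟨a, ha⟩ := Ideal.Quotient.mk_surjective x
    subst ha
    have hnil : IsNilpotent (aeval a f) := by
      rw [← mem_nilradical, ← Ideal.Quotient.eq_zero_iff_mem, ← Ideal.Quotient.mkₐ_eq_mk K,
        ← aeval_algHom_apply]
      exact hx0
    have hu : IsUnit (aeval a (derivative f)) := by
      obtain ⟨s, t, hst⟩ := hsep
      have h1 := congrArg (aeval a) hst
      rw [map_add, map_mul, map_mul, map_one] at h1
      have h2 : IsUnit (aeval a t * aeval a (derivative f)) := by
        rw [eq_sub_of_add_eq' h1]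
        exact IsNilpotent.isUnit_one_sub ((Commute.all _ _).isNilpotent_mul_left hnil)
      exact isUnit_of_mul_isUnit_right h2
    obtain ⟨r, ⟨hr, hr0⟩, -⟩ := existsUnique_nilpotent_sub_and_aeval_eq_zero hnil hu
    haveI : Algebra.Etale K (AdjoinRoot f) := by
      refine Hensel.etale_adjoinRoot hmonic ?_
      obtain ⟨s, t, hst⟩ := hsep
      have h1 := congrArg (aeval (AdjoinRoot.root f)) hst
      rw [map_add, map_mul, map_mul, map_one, AdjoinRoot.aeval_eq f, AdjoinRoot.mk_self, mul_zero, zero_add] at h1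
      exact IsUnit.of_mul_eq_one_right _ h1
    let g : AdjoinRoot f →ₐ[K] A := AdjoinRoot.liftAlgHom f (Algebra.ofId K A) r (by exact hr0)
    refine ⟨r, le_max (weaklyEtale_range g) ⟨AdjoinRoot.root f, AdjoinRoot.liftAlgHom_root _ _ _ _⟩, ?_⟩
    exact (Ideal.Quotient.eq.2 (mem_nilradical.2 hr)).symm

theorem isField_max (he : ∀ e : A, IsIdempotentElem e → e = 0 ∨ e = 1) [Nontrivial A] :
    IsField (EtAlgD.maxWeaklyEtale K A) ∧ Algebra.IsSeparable K (EtAlgD.maxWeaklyEtale K A) := by
  have hF : IsField (EtAlgD.maxWeaklyEtale K A) := by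
    refine ⟨⟨0, 1, zero_ne_one⟩, mul_comm, fun {a} ha => ?_⟩
    obtain ⟨r, hr⟩ := WEtLib.exists_mul_eq (K := K) a
    refine ⟨r, ?_⟩
    have hid : IsIdempotentElem ((a * r : EtAlgD.maxWeaklyEtale K A) : A) := by
      show _ * _ = _
      rw [← MulMemClass.coe_mul]
      exact congrArg Subtype.val (by linear_combination (-r) * hr)
    rcases he _ hid with h | h
    · refine absurd ?_ ha
      rw [hr, show a * a * r = a * (a * r) from mul_assoc _ _ _, show a * r = 0 from Subtype.ext h, mul_zero]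
    · exact Subtype.ext h
  letI := hF.toField
  exact ⟨hF, S0426.result (K := K) (L := EtAlgD.maxWeaklyEtale K A)⟩

end Groth.Agent.WEtMaxLib
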